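import Groth.Prelude.Def_SGA1
import Groth.Prelude.Def_Flat
import Mathlib

/-!
# Factorization of an equalizing morphism through a universal homeomorphism
-/

set_option backward.isDefEq.respectTransparency false
set_option backward.isDefEq.respectTransparency.types false
set_option linter.style.haveILetI false

universe u

open CategoryTheory CategoryTheory.Limits AlgebraicGeometry

namespace Groth.Agent.UHFactor

variable {S X T T' : Scheme.{u}} {πX : X ⟶ S} {t : T ⟶ S} {p : T' ⟶ T} {f' : T' ⟶ X}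

/-- two points with the same image in the base give the same map to `X`. -/
lemma agree (heq : ∀ (W : Scheme.{u}) [IsReduced W] (w : W ⟶ pullback p p),
      w ≫ pullback.fst p p ≫ f' = w ≫ pullback.snd p p ≫ f')
    {W : Scheme.{u}} [IsReduced W] (a b : W ⟶ T') (h : a ≫ p = b ≫ p) : a ≫ f' = b ≫ f' := by
  simpa using heq W (pullback.lift a b h)

lemma agree_pt (heq : ∀ (W : Scheme.{u}) [IsReduced W] (w : W ⟶ pullback p p),
      w ≫ pullback.fst p p ≫ f' = w ≫ pullback.snd p p ≫ f')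
    (a b : T') (h : p a = p b) : f' a = f' b := by
  obtain ⟨z, rfl, rfl⟩ := Scheme.Pullback.exists_preimage_pullback a b h
  have e := heq _ ((pullback p p).fromSpecResidueField z)
  have := congrArg (fun φ : Spec ((pullback p p).residueField z) ⟶ X => φ (IsLocalRing.closedPoint _)) e
  simpa using this

lemma isQuotientMap_of_univSubmersive (hp : SGA1.UnivSubmersive p) :
    Topology.IsQuotientMap p :=
  hp (𝟙 _) (𝟙 _) p IsPullback.of_id_fst.flip

lemma isQuotientMap_snd (hp : SGA1.UnivSubmersive p) {B : Scheme.{u}} (g : B ⟶ T) :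
    Topology.IsQuotientMap (pullback.snd p g) :=
  hp _ _ _ (IsPullback.of_hasPullback p g).flip

lemma isQuotientMap_fst (hp : SGA1.UnivSubmersive p) {B : Scheme.{u}} (g : B ⟶ T) :
    Topology.IsQuotientMap (pullback.fst g p) :=
  hp _ _ _ (IsPullback.of_hasPullback g p)

/-- the image of the graph is closed over a chart with separated target. -/
lemma isClosed_range_graph (hp : SGA1.UnivSubmersive p)
    (heq : ∀ (W : Scheme.{u}) [IsReduced W] (w : W ⟶ pullback p p),
      w ≫ pullback.fst p p ≫ f' = w ≫ pullback.snd p p ≫ f')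
    (hf' : f' ≫ πX = p ≫ t)
    (U : X.Opens) [IsSeparated (U.ι ≫ πX)] (V : T.Opens) (hUV : p ⁻¹ᵁ V ≤ f' ⁻¹ᵁ U)
    {W : Scheme.{u}} (m : W ⟶ pullback t πX) [Mono m]
    (hm₁ : ∀ w, pullback.fst t πX (m w) ∈ V) (hm₂ : ∀ w, pullback.snd t πX (m w) ∈ U)
    (A : T'.Opens) (hA : p ⁻¹ᵁ V ≤ A) (γ : (A : Scheme.{u}) ⟶ W)
    (hγ : γ ≫ m = A.ι ≫ pullback.lift p f' hf'.symm) :
    IsClosed (Set.range γ) := by
  let a := pullback.fst (m ≫ pullback.fst t πX) p
  let b := pullback.snd (m ≫ pullback.fst t πX) p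
  have hab : a ≫ m ≫ pullback.fst t πX = b ≫ p := pullback.condition
  have hbV : ∀ r, b r ∈ p ⁻¹ᵁ V := by
    intro r
    change p (b r) ∈ V
    rw [← Scheme.Hom.comp_apply, ← hab]
    exact hm₁ (a r)
  let b' : _ ⟶ (A : Scheme.{u}) := IsOpenImmersion.lift A.ι b (by
    rintro _ ⟨r, rfl⟩
    rw [Scheme.Opens.range_ι]
    exact hA (hbV r))
  have hb' : b' ≫ A.ι = b := IsOpenImmersion.lift_fac _ _ _
  let e₁ : _ ⟶ (U : Scheme.{u}) := IsOpenImmersion.lift U.ι (a ≫ m ≫ pullback.snd t πX) (by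
    rintro _ ⟨r, rfl⟩
    rw [Scheme.Opens.range_ι]
    exact hm₂ (a r))
  let e₂ : _ ⟶ (U : Scheme.{u}) := IsOpenImmersion.lift U.ι (b ≫ f') (by
    rintro _ ⟨r, rfl⟩
    rw [Scheme.Opens.range_ι]
    exact hUV (hbV r))
  have he₁ : e₁ ≫ U.ι = a ≫ m ≫ pullback.snd t πX := IsOpenImmersion.lift_fac _ _ _
  have he₂ : e₂ ≫ U.ι = b ≫ f' := IsOpenImmersion.lift_fac _ _ _
  have he : e₁ ≫ U.ι ≫ πX = e₂ ≫ U.ι ≫ πX := by
    rw [reassoc_of% he₁, reassoc_of% he₂, hf', ← reassoc_of% hab, pullback.condition]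
  let ψ := pullback.lift e₁ e₂ he
  haveI : IsClosedImmersion (pullback.diagonal (U.ι ≫ πX)) := inferInstance
  have hC : IsClosed (ψ ⁻¹' Set.range (pullback.diagonal (U.ι ≫ πX))) :=
    (pullback.diagonal (U.ι ≫ πX)).isClosedEmbedding.isClosed_range.preimage ψ.continuous
  refine (isQuotientMap_fst hp (m ≫ pullback.fst t πX)).isClosed_preimage.mp ?_
  convert hC using 1
  ext r
  constructor
  · rintro ⟨x, hx⟩
    obtain ⟨z, hz, -⟩ := Scheme.Pullback.exists_preimage_pullback (f := a) (g := γ) r x hx.symm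
    let ω := (pullback a γ).fromSpecResidueField z
    have h1 : ω ≫ pullback.fst a γ ≫ e₁ ≫ U.ι = ω ≫ pullback.fst a γ ≫ e₂ ≫ U.ι := by
      rw [he₁, he₂, pullback.condition_assoc, reassoc_of% hγ, pullback.lift_snd]
      have := agree heq (ω ≫ pullback.fst a γ ≫ b) (ω ≫ pullback.snd a γ ≫ A.ι) (by
        simp only [Category.assoc, ← hab, pullback.condition_assoc, reassoc_of% hγ,
          pullback.lift_fst])
      simpa only [Category.assoc] using this.symm
    have h2 : ω ≫ pullback.fst a γ ≫ ψ =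
        (ω ≫ pullback.fst a γ ≫ e₁) ≫ pullback.diagonal (U.ι ≫ πX) := by
      have h1' : ω ≫ pullback.fst a γ ≫ e₁ = ω ≫ pullback.fst a γ ≫ e₂ := by
        rw [← cancel_mono U.ι]; simpa using h1
      ext1 <;> simp [ψ, h1']
    have h3 := congrArg (fun φ : Spec ((pullback a γ).residueField z) ⟶ _ =>
      φ (IsLocalRing.closedPoint _)) h2
    simp only [Scheme.Hom.comp_apply, ω, Scheme.fromSpecResidueField_apply, hz] at h3
    exact ⟨_, h3.symm⟩
  · intro hr
    obtain ⟨z, hz⟩ : r ∈ Set.range (pullback.fst ψ (pullback.diagonal (U.ι ≫ πX))) := by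
      rw [Scheme.Pullback.range_fst]; exact hr
    let c := pullback.fst ψ (pullback.diagonal (U.ι ≫ πX))
    have hc : c ≫ e₁ = c ≫ e₂ := by
      have h := pullback.condition (f := ψ) (g := pullback.diagonal (U.ι ≫ πX))
      have h₁ := congrArg (fun φ => φ ≫ pullback.fst _ _) h
      have h₂ := congrArg (fun φ => φ ≫ pullback.snd _ _) h
      simp only [Category.assoc, ψ, pullback.lift_fst, pullback.lift_snd, pullback.diagonal_fst,
        pullback.diagonal_snd, Category.comp_id] at h₁ h₂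
      exact h₁.trans h₂.symm
    have hca : c ≫ a = c ≫ b' ≫ γ := by
      rw [← cancel_mono m]
      simp only [Category.assoc, hγ, reassoc_of% hb']
      ext1
      · simp [hab]
      · simp only [Category.assoc, pullback.lift_snd, ← he₁, ← he₂, reassoc_of% hc]
    refine ⟨b' r, ?_⟩
    rw [← hz]
    have := congrArg (fun φ : pullback ψ (pullback.diagonal (U.ι ≫ πX)) ⟶ W => φ z) hca
    simpa [c] using this.symm

/-- a chart: an open `U` of `X` separated over `S` and an open `V` of `T` mapped into it. -/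
structure Chart (πX : X ⟶ S) (p : T' ⟶ T) (f' : T' ⟶ X) where
  U : X.Opens
  V : T.Opens
  sep : IsSeparated (U.ι ≫ πX)
  le : p ⁻¹ᵁ V ≤ f' ⁻¹ᵁ U

lemma exists_chart (hp : SGA1.UnivSubmersive p)
    (heq : ∀ (W : Scheme.{u}) [IsReduced W] (w : W ⟶ pullback p p),
      w ≫ pullback.fst p p ≫ f' = w ≫ pullback.snd p p ≫ f') (a : T') :
    ∃ c : Chart πX p f', p a ∈ c.V := by
  obtain ⟨_, ⟨S₀, hS₀, rfl⟩, hxS, -⟩ := S.isBasis_affineOpens.exists_subset_of_mem_open
    (Set.mem_univ (πX (f' a))) isOpen_univ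
  obtain ⟨_, ⟨U, hU, rfl⟩, hxU, hUS⟩ := X.isBasis_affineOpens.exists_subset_of_mem_open
    (show f' a ∈ πX ⁻¹ᵁ S₀ from hxS) (πX ⁻¹ᵁ S₀).isOpen
  haveI : IsAffine (Scheme.Opens.toScheme U) := hU
  haveI : IsAffine (Scheme.Opens.toScheme S₀) := hS₀
  have hsep : IsSeparated (Scheme.Opens.ι U ≫ πX) := by
    rw [← Scheme.Hom.resLE_comp_ι (f := πX) (e := hUS)]
    infer_instance
  have hq := isQuotientMap_of_univSubmersive hp
  have hpre : p ⁻¹' (p '' (f' ⁻¹ᵁ U : Set T')) = (f' ⁻¹ᵁ U : Set T') := by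
    refine Set.Subset.antisymm ?_ (Set.subset_preimage_image _ _)
    rintro b ⟨a', ha', h⟩
    change f' b ∈ U
    rw [← agree_pt heq a' b h]
    exact ha'
  exact ⟨⟨U, ⟨p '' (f' ⁻¹ᵁ U : Set T'), hq.isOpen_preimage.mp (by
    rw [hpre]; exact (f' ⁻¹ᵁ U).isOpen)⟩, hsep, fun b hb => hpre.le hb⟩, a, hxU, rfl⟩

lemma isSeparated_fst_restrict (U : X.Opens) [IsSeparated (U.ι ≫ πX)] {W : Scheme.{u}}
    (m : W ⟶ pullback t πX) [Mono m] (hm₂ : ∀ w, pullback.snd t πX (m w) ∈ U) :
    IsSeparated (m ≫ pullback.fst t πX) := by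
  let e : W ⟶ (U : Scheme.{u}) := IsOpenImmersion.lift U.ι (m ≫ pullback.snd t πX) (by
    rintro _ ⟨r, rfl⟩
    rw [Scheme.Opens.range_ι]
    exact hm₂ r)
  have he : e ≫ U.ι = m ≫ pullback.snd t πX := IsOpenImmersion.lift_fac _ _ _
  let l : W ⟶ pullback t (U.ι ≫ πX) := pullback.lift (m ≫ pullback.fst t πX) e (by
    simp [reassoc_of% he, pullback.condition])
  have hl : l ≫ pullback.map t (U.ι ≫ πX) t πX (𝟙 _) U.ι (𝟙 _) (by simp) (by simp) = m := by
    ext1 <;> simp [l, he]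
  haveI : Mono l := mono_of_mono_fac hl
  have : m ≫ pullback.fst t πX = l ≫ pullback.fst t (U.ι ≫ πX) := by simp [l]
  rw [this]
  infer_instance

theorem exists_factor [QuasiCompact p] (hp : SGA1.UnivSubmersive p) (hf' : f' ≫ πX = p ≫ t)
    (heq : ∀ (W : Scheme.{u}) [IsReduced W] (w : W ⟶ pullback p p),
      w ≫ pullback.fst p p ≫ f' = w ≫ pullback.snd p p ≫ f') :
    ∃ (T₁ : Scheme.{u}) (q : T' ⟶ T₁) (u : T₁ ⟶ T) (f₁ : T₁ ⟶ X), q ≫ u = p ∧
      (∀ U : T₁.Opens, Function.Injective (q.app U).hom) ∧ FlatMor.IsUnivHomeo u ∧ IsSeparated u ∧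
      q ≫ f₁ = f' ∧ f₁ ≫ πX = u ≫ t := by
  let P₀ := pullback t πX
  let γ : T' ⟶ P₀ := pullback.lift p f' hf'.symm
  let Wc (c : Chart πX p f') : P₀.Opens :=
    pullback.fst t πX ⁻¹ᵁ c.V ⊓ pullback.snd t πX ⁻¹ᵁ c.U
  let Ω : P₀.Opens := ⨆ c, Wc c
  have hγW : ∀ (c : Chart πX p f') (a : T'), γ a ∈ Wc c ↔ p a ∈ c.V := by
    intro c a
    change (pullback.fst t πX (γ a) ∈ c.V ∧ pullback.snd t πX (γ a) ∈ c.U) ↔ _
    rw [← Scheme.Hom.comp_apply, ← Scheme.Hom.comp_apply, pullback.lift_fst, pullback.lift_snd]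
    exact ⟨And.left, fun h => ⟨h, c.le h⟩⟩
  have hγΩ : Set.range γ ⊆ Set.range Ω.ι := by
    rintro _ ⟨a, rfl⟩
    rw [Scheme.Opens.range_ι]
    obtain ⟨c, hc⟩ := exists_chart (πX := πX) hp heq a
    exact TopologicalSpace.Opens.mem_iSup.mpr ⟨c, (hγW c a).mpr hc⟩
  let j : T' ⟶ (Ω : Scheme.{u}) := IsOpenImmersion.lift Ω.ι γ hγΩ
  have hj : j ≫ Ω.ι = γ := IsOpenImmersion.lift_fac _ _ _
  let W' (c : Chart πX p f') : (Ω : Scheme.{u}).Opens := Ω.ι ⁻¹ᵁ Wc c
  have hW' : ⨆ c, W' c = ⊤ := by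
    rw [← Scheme.Hom.preimage_iSup, Scheme.Opens.ι_preimage_self]
  have hjW : ∀ c, j ⁻¹ᵁ W' c = p ⁻¹ᵁ c.V := by
    intro c
    ext a
    change Ω.ι (j a) ∈ Wc c ↔ p a ∈ c.V
    rw [← Scheme.Hom.comp_apply, hj]
    exact hγW c a
  haveI hjqc : QuasiCompact j := by
    refine (IsZariskiLocalAtTarget.iff_of_iSup_eq_top (P := @QuasiCompact) W' hW').mpr fun c => ?_
    let i : (W' c : Scheme.{u}) ⟶ (c.V : Scheme.{u}) :=
      IsOpenImmersion.lift c.V.ι ((W' c).ι ≫ Ω.ι ≫ pullback.fst t πX) (by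
        rintro _ ⟨r, rfl⟩
        rw [Scheme.Opens.range_ι]
        exact r.2.1)
    haveI := c.sep
    haveI : IsSeparated (((W' c).ι ≫ Ω.ι) ≫ pullback.fst t πX) :=
      isSeparated_fst_restrict c.U _ (fun r => r.2.2)
    haveI : IsSeparated (i ≫ c.V.ι) := by
      rw [IsOpenImmersion.lift_fac, ← Category.assoc]; infer_instance
    haveI : IsSeparated i := IsSeparated.of_comp i c.V.ι
    haveI : QuasiCompact ((j ∣_ W' c) ≫ i) := by
      have : (j ∣_ W' c) ≫ i = (T'.isoOfEq (hjW c)).hom ≫ (p ∣_ c.V) := by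
        rw [← cancel_mono c.V.ι]
        simp [i, morphismRestrict_ι_assoc, reassoc_of% hj, γ]
      rw [this]; infer_instance
    exact QuasiCompact.of_comp (j ∣_ W' c) i
  have hclosed : IsClosed (Set.range j) := by
    rw [TopologicalSpace.IsOpenCover.isClosed_iff_coe_preimage (U := W') hW']
    intro c
    haveI := c.sep
    have h := isClosed_range_graph (W := (W' c : Scheme.{u})) hp heq hf' c.U c.V c.le
      ((W' c).ι ≫ Ω.ι) (fun r => r.2.1) (fun r => r.2.2) (j ⁻¹ᵁ W' c) (hjW c).ge (j ∣_ W' c)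
      (by rw [morphismRestrict_ι_assoc, hj])
    have e : Set.range (j ∣_ W' c) = Subtype.val ⁻¹' Set.range j := by
      rw [morphismRestrict_base]
      exact Set.range_restrictPreimage _ _
    exact e ▸ h
  let q := j.toImage
  let u : j.image ⟶ T := j.imageι ≫ Ω.ι ≫ pullback.fst t πX
  let f₁ : j.image ⟶ X := j.imageι ≫ Ω.ι ≫ pullback.snd t πX
  have hqu : q ≫ u = p := by
    simp [q, u, Scheme.Hom.toImage_imageι_assoc, reassoc_of% hj, γ]
  have hqf : q ≫ f₁ = f' := by
    simp [q, f₁, Scheme.Hom.toImage_imageι_assoc, reassoc_of% hj, γ]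
  haveI hqs : Surjective q := by
    refine ⟨fun w => ?_⟩
    have hw : j.imageι w ∈ Set.range j := by
      have : j.imageι w ∈ Set.range j.imageι := ⟨w, rfl⟩
      rw [Scheme.IdealSheafData.range_subschemeι, Scheme.Hom.support_ker, hclosed.closure_eq] at this
      exact this
    obtain ⟨a, ha⟩ := hw
    refine ⟨a, j.imageι.isEmbedding.injective ?_⟩
    rw [← Scheme.Hom.comp_apply, Scheme.Hom.toImage_imageι, ha]
  haveI hps : Surjective p := ⟨(isQuotientMap_of_univSubmersive hp).surjective⟩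
  haveI hus : Surjective u := by
    haveI : Surjective (q ≫ u) := by rw [hqu]; exact hps
    exact Surjective.of_comp q u
  haveI hui : UniversallyInjective u := by
    rw [UniversallyInjective.iff_diagonal]
    haveI : Surjective (pullback.map p p u u q q (𝟙 T) ((Category.comp_id _).trans hqu.symm)
        ((Category.comp_id _).trans hqu.symm)) :=
      MorphismProperty.pullbackMap (P := @Surjective) hqs hqs hqu.symm hqu.symm
    refine ⟨fun z => ?_⟩
    obtain ⟨z', hz'⟩ := (pullback.map p p u u q q (𝟙 T) ((Category.comp_id _).trans hqu.symm)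
        ((Category.comp_id _).trans hqu.symm)).surjective z
    let ω := (pullback p p).fromSpecResidueField z'
    have h0 := heq _ ω
    have h1 : ω ≫ pullback.fst p p ≫ q = ω ≫ pullback.snd p p ≫ q := by
      rw [← cancel_mono j.imageι, ← cancel_mono Ω.ι]
      simp only [Category.assoc, q, Scheme.Hom.toImage_imageι_assoc, hj]
      ext1
      · simp [γ, pullback.condition]
      · simpa [γ] using h0
    have h2 : ω ≫ pullback.map p p u u q q (𝟙 T) ((Category.comp_id _).trans hqu.symm)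
        ((Category.comp_id _).trans hqu.symm) =
        (ω ≫ pullback.fst p p ≫ q) ≫ pullback.diagonal u := by
      ext1 <;> simp [h1]
    refine ⟨(pullback.fst p p ≫ q) z', ?_⟩
    have h3 := congrArg (fun φ : Spec ((pullback p p).residueField z') ⟶ _ =>
      φ (IsLocalRing.closedPoint _)) h2
    simp only [Scheme.Hom.comp_apply, ω, Scheme.fromSpecResidueField_apply, hz'] at h3
    simpa using h3.symm
  refine ⟨j.image, q, u, f₁, hqu, ?_, ?_, ?_, hqf, ?_⟩
  · intro U
    exact TopCat.Presheaf.app_injective_of_stalkFunctor_map_injective (F := j.image.sheaf) q.c U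
      (fun x _ => j.stalkFunctor_toImage_injective x)
  · intro X' Y' i₁ i₂ g h
    haveI : UniversallyInjective g := MorphismProperty.of_isPullback h.flip hui
    haveI : Surjective g := MorphismProperty.of_isPullback h.flip hus
    refine isHomeomorph_iff_continuous_isClosedMap_bijective.mpr
      ⟨g.continuous, fun Z hZ => ?_, g.injective, g.surjective⟩
    refine (isQuotientMap_snd hp i₂).isClosed_preimage.mp ?_
    let φ : pullback p i₂ ⟶ X' := h.lift (pullback.snd p i₂) (pullback.fst p i₂ ≫ q) (by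
      rw [Category.assoc, hqu, pullback.condition])
    have hφ : φ ≫ g = pullback.snd p i₂ := h.lift_fst _ _ _
    have : pullback.snd p i₂ ⁻¹' (g '' Z) = φ ⁻¹' Z := by
      rw [← hφ, Scheme.Hom.comp_base, TopCat.coe_comp, Set.preimage_comp,
        Set.preimage_image_eq _ g.injective]
    rw [this]
    exact hZ.preimage φ.continuous
  · let Vc (c : Chart πX p f') : T.Opens := c.V
    have hV : ⨆ c, Vc c = ⊤ := by
      rw [eq_top_iff]
      intro y _
      obtain ⟨a, rfl⟩ := p.surjective y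
      exact TopologicalSpace.Opens.mem_iSup.mpr (exists_chart hp heq a)
    refine (IsZariskiLocalAtTarget.iff_of_iSup_eq_top (P := @IsSeparated) Vc hV).mpr fun c => ?_
    haveI := c.sep
    have hmem : ∀ r : (u ⁻¹ᵁ Vc c : Scheme.{u}),
        pullback.snd t πX (((u ⁻¹ᵁ Vc c).ι ≫ j.imageι ≫ Ω.ι) r) ∈ c.U := by
      rintro ⟨r, hr⟩
      obtain ⟨a, rfl⟩ := q.surjective r
      have ha : p a ∈ c.V := by
        have e : u (q a) = p a := by
          rw [← Scheme.Hom.comp_apply]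
          exact congrArg (fun φ : T' ⟶ T => φ a) hqu
        exact e ▸ hr
      have : (pullback.snd t πX) (Ω.ι (j.imageι (q a))) = f' a := by
        rw [← Scheme.Hom.comp_apply, ← Scheme.Hom.comp_apply, ← Scheme.Hom.comp_apply]
        exact congrArg (fun φ : T' ⟶ X => φ a) hqf
      rw [Scheme.Hom.comp_apply, Scheme.Hom.comp_apply]
      change pullback.snd t πX (Ω.ι (j.imageι (q a))) ∈ c.U
      rw [this]
      exact c.le ha
    haveI : IsSeparated (((u ⁻¹ᵁ Vc c).ι ≫ j.imageι ≫ Ω.ι) ≫ pullback.fst t πX) :=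
      isSeparated_fst_restrict c.U _ hmem
    haveI : IsSeparated ((u ∣_ Vc c) ≫ (Vc c).ι) := by
      rw [morphismRestrict_ι]
      simpa [u] using (‹IsSeparated (((u ⁻¹ᵁ Vc c).ι ≫ j.imageι ≫ Ω.ι) ≫ pullback.fst t πX)›)
    exact IsSeparated.of_comp _ (Vc c).ι
  · simp [u, f₁, pullback.condition]

end Groth.Agent.UHFactor
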